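import Mathlib

/-!
# The cycle-count inequality for two-generated permutation groups
-/

namespace CfsgLib.TriGen

open Module LinearMap MulAction Subgroup

theorem scott {F V : Type*} [Field F] [AddCommGroup V] [Module F V] [FiniteDimensional F V]
    (a b : Module.End F V) :
    finrank F (ker (a - 1)) + finrank F (ker (b - 1)) + finrank F (ker (a * b - 1)) +
      finrank F (range (a - 1) ⊔ range (b - 1) : Submodule F V) ≤
      2 * finrank F V + finrank F (ker (a - 1) ⊓ ker (b - 1) : Submodule F V) := by
  have h1 := finrank_range_add_finrank_ker (a - 1)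
  have h2 := finrank_range_add_finrank_ker (b - 1)
  have h3 := Submodule.finrank_sup_add_finrank_inf_eq (range (a - 1)) (range (b - 1))
  let f := (b - 1).domRestrict (ker (a * b - 1))
  have h4 := finrank_range_add_finrank_ker f
  have h5 : finrank F (range f) ≤ finrank F (range (a - 1) ⊓ range (b - 1) : Submodule F V) := by
    refine Submodule.finrank_mono ?_
    rintro _ ⟨⟨v, hv⟩, rfl⟩
    have hv' : a (b v) = v := by simpa [sub_eq_zero] using hv
    exact ⟨⟨-b v, by simp [f, hv']; abel⟩, ⟨v, rfl⟩⟩
  have h6 : finrank F (ker f) ≤ finrank F (ker (a - 1) ⊓ ker (b - 1) : Submodule F V) := by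
    rw [← Submodule.finrank_map_subtype_eq]
    refine Submodule.finrank_mono ?_
    rintro _ ⟨⟨v, hv⟩, hf, rfl⟩
    have hv' : a (b v) = v := by simpa [sub_eq_zero] using hv
    have hb : b v = v := by simpa [f, sub_eq_zero] using hf
    rw [hb] at hv'
    exact ⟨by simpa [sub_eq_zero] using hv', by simpa [sub_eq_zero] using hb⟩
  omega

variable {G X : Type*} [Group G] [MulAction G X]

/-- the action on functions. -/
def T (X : Type*) [MulAction G X] (g : G) : Module.End ℚ (X → ℚ) := funLeft ℚ ℚ fun p : X => g • p

theorem T_apply (g : G) (f : X → ℚ) (p : X) : T X g f p = f (g • p) := rfl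

theorem T_mul (g h : G) : T X (g * h) = T X h * T X g := by
  ext f p; simp [T_apply, mul_smul]

theorem mem_kerT {g : G} {f : X → ℚ} : f ∈ ker (T X g - 1) ↔ ∀ p, f (g • p) = f p := by
  simp [sub_eq_zero, funext_iff, T_apply]

/-- number of orbits. -/
noncomputable abbrev no (H X : Type*) [Group H] [MulAction H X] : ℕ :=
  Nat.card (orbitRel.Quotient H X)

variable [Finite X]

theorem no_le_ker (g : G) : no (zpowers g) X ≤ finrank ℚ (ker (T X g - 1)) := by
  classical
  have := Fintype.ofFinite (orbitRel.Quotient (zpowers g) X)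
  let f : (orbitRel.Quotient (zpowers g) X → ℚ) →ₗ[ℚ] (X → ℚ) := funLeft ℚ ℚ Quotient.mk''
  have hf : Function.Injective f := funLeft_injective_of_surjective _ _ _ Quotient.mk''_surjective
  rw [no, Nat.card_eq_fintype_card, ← finrank_fintype_fun_eq_card ℚ, ← finrank_range_of_inj hf]
  refine Submodule.finrank_mono ?_
  rintro _ ⟨v, rfl⟩
  refine mem_kerT.2 fun p => congrArg v (Quotient.sound' ?_)
  exact ⟨⟨g, mem_zpowers g⟩, rfl⟩

theorem inf_le_no {x y : G} (h : closure {x, y} = ⊤) :
    finrank ℚ (ker (T X x - 1) ⊓ ker (T X y - 1) : Submodule ℚ (X → ℚ)) ≤ no G X := by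
  classical
  have := Fintype.ofFinite (orbitRel.Quotient G X)
  rw [no, Nat.card_eq_fintype_card, ← finrank_fintype_fun_eq_card ℚ]
  refine finrank_le_finrank_of_injective
    (f := (funLeft ℚ ℚ (Quotient.out : orbitRel.Quotient G X → X)).domRestrict _) ?_
  rw [← ker_eq_bot, eq_bot_iff]
  rintro ⟨v, hx, hy⟩ hv
  have hall : ∀ g : G, ∀ p, v (g • p) = v p := fun g => by
    have hg : g ∈ closure ({x, y} : Set G) := h ▸ mem_top g
    induction hg using closure_induction with
    | mem a ha => rcases ha with rfl | rfl; exacts [mem_kerT.1 hx, mem_kerT.1 hy]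
    | one => simp
    | mul a b _ _ ha hb => intro p; rw [mul_smul, ha, hb]
    | inv a _ ha => intro p; rw [← ha, smul_inv_smul]
  refine Subtype.ext (funext fun p => ?_)
  have h0 : v (Quotient.out (Quotient.mk'' p : orbitRel.Quotient G X)) = 0 := congrFun hv _
  obtain ⟨g, hg⟩ : (orbitRel G X) (Quotient.out (Quotient.mk'' p : orbitRel.Quotient G X)) p :=
    Quotient.mk_out' p
  rw [← hg] at h0
  exact (hall g p).symm.trans h0

theorem card_le_sup {x y : G} (h : closure {x, y} = ⊤) :
    Nat.card X ≤
      finrank ℚ (range (T X x - 1) ⊔ range (T X y - 1) : Submodule ℚ (X → ℚ)) + no G X := by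
  classical
  have := Fintype.ofFinite (orbitRel.Quotient G X)
  have := Fintype.ofFinite X
  set W := (range (T X x - 1) ⊔ range (T X y - 1) : Submodule ℚ (X → ℚ))
  have hall : ∀ g : G, ∀ v, T X g v - v ∈ W := fun g => by
    have hg : g ∈ closure ({x, y} : Set G) := h ▸ mem_top g
    induction hg using closure_induction with
    | mem a ha =>
      rcases ha with rfl | rfl
      exacts [fun v => Submodule.mem_sup_left ⟨v, rfl⟩, fun v => Submodule.mem_sup_right ⟨v, rfl⟩]
    | one => intro v; convert W.zero_mem; ext p; simp [T_apply]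
    | mul a b _ _ ha hb =>
      intro v
      convert W.add_mem (hb (T X a v)) (ha v) using 1
      rw [T_mul]; simp
    | inv a _ ha =>
      intro v
      convert W.neg_mem (ha (T X a⁻¹ v)) using 1
      ext p; simp [T_apply]
  let b : orbitRel.Quotient G X → X → ℚ := fun q => Pi.single q.out 1
  have htop : W ⊔ Submodule.span ℚ (Set.range b) = ⊤ := by
    rw [eq_top_iff, ← (Pi.basisFun ℚ X).span_eq, Submodule.span_le]
    rintro _ ⟨p, rfl⟩
    obtain ⟨g, hg⟩ : (orbitRel G X) (Quotient.out (Quotient.mk'' p : orbitRel.Quotient G X)) p :=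
      Quotient.mk_out' p
    have e : Pi.basisFun ℚ X p = (T X g (b (Quotient.mk'' p)) - b (Quotient.mk'' p)) +
        b (Quotient.mk'' p) := by
      ext q
      simp only [b, ← hg]
      simp [T_apply, Pi.single_apply]
    rw [e]
    exact Submodule.add_mem_sup (hall g _) (Submodule.subset_span ⟨_, rfl⟩)
  have h1 := Submodule.finrank_add_le_finrank_add_finrank W (Submodule.span ℚ (Set.range b))
  have h2 : finrank ℚ (Submodule.span ℚ (Set.range b)) ≤ _ := finrank_range_le_card b
  rw [htop, finrank_top, finrank_fintype_fun_eq_card] at h1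
  rw [no, Nat.card_eq_fintype_card, Nat.card_eq_fintype_card]
  omega

/-- Ree's inequality. -/
theorem ree {x y : G} (h : closure {x, y} = ⊤) :
    no (zpowers x) X + no (zpowers y) X + no (zpowers (x * y)) X ≤ Nat.card X + 2 * no G X := by
  have := Fintype.ofFinite X
  have h1 := scott (T X y) (T X x)
  rw [← T_mul, finrank_fintype_fun_eq_card, ← Nat.card_eq_fintype_card, sup_comm, inf_comm] at h1
  have := no_le_ker (X := X) x
  have := no_le_ker (X := X) y
  have := no_le_ker (X := X) (x * y)
  have := inf_le_no (X := X) h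
  have := card_le_sup (X := X) h
  omega

/-- the number of cycles of an element of prime order. -/
theorem no_prime {g : G} {p f : ℕ} (hp : p.Prime) (hg : orderOf g = p)
    (hf : ∀ a : G, orderOf a = p → Nat.card (fixedBy X a) = f) :
    no (zpowers g) X * p = Nat.card X + (p - 1) * f := by
  classical
  have hfin : IsOfFinOrder g := orderOf_pos_iff.1 (hg ▸ hp.pos)
  have : Finite (zpowers g) := finite_zpowers.2 hfin
  have := Fintype.ofFinite (zpowers g)
  have := Fintype.ofFinite X
  have := Fintype.ofFinite (orbitRel.Quotient (zpowers g) X)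
  have hc : Fintype.card (zpowers g) = p := by rw [← Nat.card_eq_fintype_card, Nat.card_zpowers, hg]
  have h := sum_card_fixedBy_eq_card_orbits_mul_card_group (zpowers g) X
  rw [hc, ← Finset.add_sum_erase _ _ (Finset.mem_univ 1),
    Finset.sum_congr rfl (g := fun _ => f) fun a ha => ?_] at h
  · rw [no, Nat.card_eq_fintype_card, Nat.card_eq_fintype_card]
    simp [hc] at h
    convert h.symm
  · rw [← Nat.card_eq_fintype_card]
    refine hf a ?_
    have := Fact.mk hp
    rw [orderOf_coe]
    refine orderOf_eq_prime (hc ▸ pow_card_eq_one) (Finset.ne_of_mem_erase ha)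

end CfsgLib.TriGen
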